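import Cfsg.Agent.Gen2.SecRank

/-! A Sylow 2-subgroup `M` of `Aut (Z₄ × Z₄)` (helper20) as codes `< 32`, and its subgroups of rank at least 3. -/

set_option autoImplicit false
set_option synthInstance.maxSize 4096

namespace Cfsg.Agent.MacW
open Subgroup Cfsg.Agent.BG

theorem fib {G G' : Type*} [Group G] [Finite G] (A : Subgroup G) (f : G → G') (T : Set G') [Finite T] (F : Set G)
    (hT : ∀ a ∈ A, f a ∈ T) (hF : ∀ a ∈ A, ∀ b ∈ A, f a = f b → a⁻¹ * b ∈ F) : #A ≤ Nat.card T * Nat.card F := by
  have s := fun a : A => Classical.epsilon_spec (p := fun b => b ∈ A ∧ f b = f a) ⟨a, a.2, rfl⟩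
  rw [← Nat.card_prod]
  exact Nat.card_le_card_of_injective (fun a : A => ((⟨f a, hT a a.2⟩, ⟨_, hF _ (s a).1 a a.2 (s a).2⟩) : T × F))
    fun a b e => by
      have e1 : f a = f b := congrArg (·.1.1) e
      have e2 := congrArg (·.2.1) e
      simp only [e1, mul_right_inj] at e2
      exact Subtype.ext e2

def M := Fin 32
instance instMacW1 : DecidableEq M := inferInstanceAs (DecidableEq (Fin 32))
instance instMacW2 : Fintype M := inferInstanceAs (Fintype (Fin 32))
instance instMacW3 (p : M → Prop) [h : DecidablePred p] : Decidable (∀ a, p a) := @Nat.decidableForallFin 32 p h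
instance instMacW4 (p : M → Prop) [h : DecidablePred p] : Decidable (∃ a, p a) := @Nat.decidableExistsFin 32 p h
def k (n : ℕ) : M := Fin.ofNat 32 n
def M.v (a : M) : ℕ := Fin.val a
def tT : ℕ := 7855619767457412143805597898935947717657285090687514660249015534892718439975723241215358094552287927163801869429030028228671375216152919517989270504350677271341010624485227514416896574057835253390254029904963843680122821240602935914715265033471369305627554843548809929945462490137190200409005537447806604001920368742034526438237753921598661062770854064201210804142468976602736517184030530422562838301511599482807099454432390467603189213885612753809896449434059907127469235894229038544311647627623267076620404262697799987178219863721886215551940858615273982986967651031771358924066784103988455330550568507079496170731717674530021464795000763627627195812380428992007503420086213341703570600939837084145433426020673786423167653977300009071166445219909512153972705311898692788664815276320883084320367334679463599463151925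8197609899997974403714581704306093446579120016894660055865553190977395667822330804488668354318074465040459084902542580379922989150520202131470280125085092431918612509570296032060789996171298334778252876229420284092286668829837940544274187711273754322526540273264137366061648733202992631076698718146379584474831620425928230145235341883200614865005358044012896344066029382895249620252219784054429506851904700687480788670628733000166480623427635109619814816705444323677450142283771634299518109174064242239108116131861621331678219307697201232768518745178856424378619728357687555195582805804597592588815719248519234020437940936724559603960790474108293600550241353944941949583329163132950064354989223135084454634734794263196960800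
def tI : ℕ := 1033054961973530259721884681308313870552753342496
instance instMacW5 : Mul M := ⟨fun a b => k (tT >>> (5 * (32 * a.v + b.v)))⟩
instance instMacW6 : One M := ⟨k 0⟩
instance instMacW7 : Inv M := ⟨fun a => k (tI >>> (5 * a.v))⟩
abbrev V := ZMod 4 × ZMod 4
def act (s : M) (v : V) : V :=
  ((1 + 2 * (s.v % 2) : ℕ) * v.1 + (s.v / 16 + 2 * (s.v / 4 % 2) : ℕ) * v.2,
    (2 * (s.v / 2 % 2) : ℕ) * v.1 + (1 + 2 * (s.v / 8 % 2) : ℕ) * v.2)
theorem act_mul : ∀ a b : M, ∀ i, act (a * b) i = act a (act b i) := by decide +kernel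
theorem act_inj : ∀ a b : M, (∀ i, act a i = act b i) → a = b := by decide +kernel
instance instMacW8 : Group M := Group.ofLeftAxioms (fun a b c => act_inj _ _ fun i => by simp only [act_mul])
  (by decide +kernel) (by decide +kernel)
theorem act_one : ∀ v, act 1 v = v := by decide +kernel
theorem act_lin : ∀ s v, act s v = v.1.val • act s (1, 0) + v.2.val • act s (0, 1) := by decide +kernel
theorem act_ex : ∀ u v : V, u + u = (2, 0) → v + v ≠ 0 → v + v ≠ (2, 0) → ∃ s, act s (1, 0) = u ∧ act s (0, 1) = v := by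
  decide +kernel

theorem cardp (p : M → Prop) [DecidablePred p] : Nat.card {w // p w} = (Finset.univ.filter p).card :=
  Nat.card_eq_fintype_card.trans (Fintype.card_subtype p)
def K : Subgroup M := ⟨⟨⟨{a | a.v < 16}, fun {a b} => (by decide +kernel : ∀ a b : M, a.v < 16 → b.v < 16 → (a * b).v < 16) a b⟩,
  by decide +kernel⟩, fun {a} => (by decide +kernel : ∀ a : M, a.v < 16 → a⁻¹.v < 16) a⟩
instance instMacW9 (a : M) : Decidable (a ∈ K) := inferInstanceAs (Decidable (a.v < 16))
theorem cK : #K = 16 := (cardp (· ∈ K)).trans (by decide +kernel)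
def good (s : M) : Prop := s = k 2 ∨ s = k 4 ∨ s = k 7 ∨ s = k 14 ∨ s = k 15
instance instMacW10 (a : M) : Decidable (good a) := by unfold good; infer_instance

theorem g1 : ∀ s, good s → s ∈ K ∧ s ≠ 1 ∧ (∀ u, u + u = 0 → ∃ v, act s v + u + v = 0) ∧ (∀ v, act s v = -v → v + v = 0) ∧
    ∀ t, good t → s ≠ t → ∀ v, act s v = v → act t v = v → v + v = 0 := by decide +kernel
theorem gK : ∀ s ∈ K, s * s = 1 ∧ (∀ t ∈ K, s * t = t * s) ∧ ∀ v, v + v = 0 → act s v = v := by decide +kernel
theorem g7 : good (k 7) ∧ ∀ v, act (k 7) v = v → v + v = 0 := by decide +kernel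
theorem d1 : ∀ a b : M, decide (a ∈ K) = decide (b ∈ K) → a⁻¹ * b ∈ K := by decide +kernel
theorem d2 : ∀ g, g ∉ K → (k 1 * (g * k 1 * g⁻¹) = k 4 ∧ g * k 1 * g⁻¹ ∈ K) ∧ ∀ a ∈ K, ∀ b ∈ K, a * g * (a * g) = b * g * (b * g) →
    a⁻¹ * b = 1 ∨ a⁻¹ * b = k 4 ∨ a⁻¹ * b = k 9 ∨ a⁻¹ * b = k 13 := by decide +kernel
theorem d3 : (∀ g, g * k 4 = k 4 * g) ∧ k 9 * k 13 = k 4 ∧ k 7 * k 14 * (k 2 * k 15) = k 4 ∧ k 7 ∈ K ∧ k 14 ∈ K ∧ k 2 ∈ K ∧
    k 15 ∈ K ∧ k 1 ∈ K := by decide +kernel

variable {H N G : Subgroup M} (h : ∀ x ∈ H, x * x ∈ N)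
include h

theorem out {g : M} (hg : g ∈ H) (ng : g ∉ K) (F : Set M) (hF : ∀ c ∈ H, c = 1 ∨ c = k 4 ∨ c = k 9 ∨ c = k 13 → c ∈ F) :
    #H ≤ 2 * (#N * Nat.card F) := by
  have a := fib H (fun s => decide (s ∈ K)) Set.univ (H ⊓ K : Subgroup M) (fun _ _ => trivial)
    fun a ha b hb e => ⟨H.mul_mem (H.inv_mem ha) hb, d1 a b e⟩
  have b := fib (H ⊓ K) (fun s => s * g * (s * g)) N F (fun a ha => h _ (mul_mem ha.1 hg))
    fun a ha b hb e => hF _ (mul_mem (inv_mem ha.1) hb.1) ((d2 g ng).2 a ha.2 b hb.2 e)
  rw [Nat.card_univ, Nat.card_eq_fintype_card (α := Bool), Fintype.card_bool] at a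
  exact a.trans (Nat.mul_le_mul_left _ b)

theorem T8 (h7 : k 7 ∉ H) : #H ≤ 8 * #N := by
  by_cases l : H ≤ K
  · have a := card_mul_relIndex l
    have b : H.relIndex K ≠ 1 := fun e => h7 (relIndex_eq_one.1 e d3.2.2.2.1)
    have : 0 < #N := Nat.card_pos
    rw [cK] at a
    rcases hr : H.relIndex K with _ | _ | r <;> rw [hr] at a b <;> first | omega | nlinarith
  obtain ⟨g, hg, ng⟩ := SetLike.not_le_iff_exists.1 l
  have := out h hg ng {c | c = 1 ∨ c = k 4 ∨ c = k 9 ∨ c = k 13} fun _ _ e => e
  rw [show Nat.card {c : M | c = 1 ∨ c = k 4 ∨ c = k 9 ∨ c = k 13} = 4 from (cardp _).trans (by decide +kernel)] at this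
  omega

theorem TS (l : H ≤ G) (c : 4 * #N < #H) : (∃ s ∈ H, good s) ∧ ∃ s ∈ G, good s ∧ ∀ g ∈ G, g * s = s * g := by
  by_cases h4 : k 4 ∈ H
  · exact ⟨⟨_, h4, .inr (.inl rfl)⟩, _, l h4, .inr (.inl rfl), fun g _ => d3.1 g⟩
  by_cases lK : H ≤ K
  · have a := card_mul_relIndex lK
    have : 0 < #N := Nat.card_pos
    have b : H.relIndex K ≠ 1 := fun e => h4 (relIndex_eq_one.1 e (by decide +kernel))
    rw [cK] at a
    have i : H.relIndex K = 2 := by
      rcases hr : H.relIndex K with _ | _ | _ | _ | r <;> rw [hr] at a b <;> first | omega | nlinarith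
    have m : ∀ a ∈ K, ∀ b ∈ K, a ∉ H → b ∉ H → a * b ∈ H := fun a ha b hb n n' =>
      (mul_mem_iff_of_index_two (a := ⟨a, ha⟩) (b := ⟨b, hb⟩) i).2 (iff_of_false n n')
    obtain ⟨s, hs, gs⟩ : ∃ s ∈ H, good s := by
      by_contra! n
      exact h4 (d3.2.2.1 ▸ mul_mem (m _ d3.2.2.2.1 _ d3.2.2.2.2.1 (n _ · (by decide +kernel)) (n _ · (by decide +kernel)))
        (m _ d3.2.2.2.2.2.1 _ d3.2.2.2.2.2.2.1 (n _ · (by decide +kernel)) (n _ · (by decide +kernel))))
    refine ⟨⟨s, hs, gs⟩, ?_⟩
    by_cases lG : G ≤ K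
    · exact ⟨s, l hs, gs, fun g hg => (gK g (lG hg)).2.1 s (lK hs)⟩
    obtain ⟨g, hg, ng⟩ := SetLike.not_le_iff_exists.1 lG
    refine ⟨_, (d2 g ng).1.1 ▸ ?_, .inr (.inl rfl), fun g _ => d3.1 g⟩
    by_cases h1 : k 1 ∈ G
    · exact mul_mem h1 (mul_mem (mul_mem hg h1) (inv_mem hg))
    · exact l (m _ d3.2.2.2.2.2.2.2 _ (d2 g ng).1.2 (fun e => h1 (l e)) fun e =>
        h1 ((mul_mem_cancel_left hg).1 ((mul_mem_cancel_right (inv_mem hg)).1 (l e))))
  obtain ⟨g, hg, ng⟩ := SetLike.not_le_iff_exists.1 lK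
  exfalso
  by_cases h9 : k 9 ∈ H
  · have := out h hg ng {c | c = 1 ∨ c = k 9} fun _ hc e => by
      rcases e with rfl | rfl | rfl | rfl
      exacts [.inl rfl, absurd hc h4, .inr rfl, absurd (d3.2.1 ▸ mul_mem h9 hc) h4]
    rw [show Nat.card {c : M | c = 1 ∨ c = k 9} = 2 from (cardp _).trans (by decide +kernel)] at this
    omega
  · have := out h hg ng {c | c = 1 ∨ c = k 13} fun _ hc e => by
      rcases e with rfl | rfl | rfl | rfl
      exacts [.inl rfl, absurd hc h4, absurd hc h9, .inr rfl]
    rw [show Nat.card {c : M | c = 1 ∨ c = k 13} = 2 from (cardp _).trans (by decide +kernel)] at this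
    omega

end Cfsg.Agent.MacW
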